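import Cfsg.Agent.EqLemmas

/-!
# Derived series inside an ambient group; 2-groups

* `der K j` : the `j`-th derived subgroup of `K`, inside `G`
* `der_le_of_relIndex` : in a 2-group `K`, a subgroup of index dividing `2^b` contains `der K b`
* `exists_twin_mem_der` : the doubling step for lower bounds
-/

set_option autoImplicit false

namespace Cfsg.Agent.SympSylowTwo

open scoped commutatorElement

variable {G : Type*} [Group G]

/-- Derived series of a subgroup inside the ambient group. -/
def der (K : Subgroup G) : ℕ → Subgroup G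
  | 0 => K
  | j + 1 => ⁅der K j, der K j⁆

theorem der_zero (K : Subgroup G) : der K 0 = K := rfl

theorem der_succ (K : Subgroup G) (j : ℕ) : der K (j + 1) = ⁅der K j, der K j⁆ := rfl

theorem der_add (K : Subgroup G) (a b : ℕ) : der K (a + b) = der (der K a) b := by
  induction b with
  | zero => rfl
  | succ b ih => rw [← Nat.add_assoc, der_succ, ih, der_succ]

theorem der_mono {K L : Subgroup G} (h : K ≤ L) (j : ℕ) : der K j ≤ der L j := by
  induction j with
  | zero => exact h
  | succ j ih => exact Subgroup.commutator_mono ih ih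

theorem der_le (K : Subgroup G) (j : ℕ) : der K j ≤ K := by
  induction j with
  | zero => exact le_rfl
  | succ j ih => exact (Subgroup.commutator_mono ih ih).trans K.commutator_le_self

theorem der_map {G' : Type*} [Group G'] (f : G →* G') (K : Subgroup G) (j : ℕ) :
    der (K.map f) j = (der K j).map f := by
  induction j with
  | zero => rfl
  | succ j ih => rw [der_succ, der_succ, ih, ← Subgroup.map_commutator]

theorem der_top (G : Type*) [Group G] (j : ℕ) : der (⊤ : Subgroup G) j = derivedSeries G j := by
  induction j with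
  | zero => rfl
  | succ j ih => rw [der_succ, ih, derivedSeries_succ]

theorem der_eq_map (K : Subgroup G) (j : ℕ) : der K j = (derivedSeries K j).map K.subtype := by
  rw [← der_top, ← der_map, ← MonoidHom.range_eq_map, Subgroup.range_subtype]

theorem derivedSeries_eq_bot_iff (K : Subgroup G) (j : ℕ) :
    derivedSeries K j = ⊥ ↔ der K j = ⊥ := by
  rw [der_eq_map, Subgroup.map_eq_bot_iff_of_injective _ K.subtype_injective]

/-- A subgroup of index dividing `2^b` in a 2-group contains the `b`-th derived subgroup. -/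
theorem der_le_of_relIndex [Finite G] : ∀ (b : ℕ) {K H : Subgroup G}, H ≤ K → IsPGroup 2 K →
    H.relIndex K ∣ 2 ^ b → der K b ≤ H := by
  intro b
  induction b with
  | zero =>
    intro K H _ _ h
    rw [pow_zero, Nat.dvd_one, Subgroup.relIndex_eq_one] at h
    exact h
  | succ b ih =>
    intro K H hHK hK h
    haveI : Fact (Nat.Prime 2) := ⟨Nat.prime_two⟩
    rcases eq_or_lt_of_le hHK with rfl | hlt
    · exact der_le _ _
    · obtain ⟨n, hn⟩ := hK.exists_card_eq
      obtain ⟨l, hl⟩ := (hK.to_subgroup (H.subgroupOf K)).exists_card_eq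
      have hln : l < n := by
        have hne : H.subgroupOf K ≠ ⊤ := fun htop => hlt.not_ge (Subgroup.subgroupOf_eq_top.1 htop)
        by_contra! hle
        apply hne
        apply Subgroup.eq_top_of_card_eq
        apply le_antisymm (Subgroup.card_le_card_group _)
        rw [hl, hn]
        exact Nat.pow_le_pow_right (by norm_num) hle
      obtain ⟨M, hMc, hHM⟩ := Sylow.exists_subgroup_card_pow_prime_le (p := 2) (m := n - 1)
        (hn ▸ Nat.pow_dvd_pow 2 (Nat.sub_le n 1)) (H.subgroupOf K) hl (by omega)
      have hidx : M.index = 2 := by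
        have h1 := M.card_mul_index
        rw [hMc, hn, show n = n - 1 + 1 by omega, pow_succ, Nat.add_sub_cancel] at h1
        exact Nat.eq_of_mul_eq_mul_left (by positivity) h1
      have hcomm : ⁅K, K⁆ ≤ M.map K.subtype := Subgroup.commutator_le.2 fun a ha b hb =>
        ⟨⁅(⟨a, ha⟩ : K), ⟨b, hb⟩⁆, by
          rw [SetLike.mem_coe, commutatorElement_def, Subgroup.mul_mem_iff_of_index_two hidx,
            Subgroup.mul_mem_iff_of_index_two hidx, Subgroup.mul_mem_iff_of_index_two hidx,
            inv_mem_iff, inv_mem_iff]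
          tauto, rfl⟩
      have hHM' : H ≤ M.map K.subtype := fun x hx => ⟨⟨x, hHK hx⟩, hHM hx, rfl⟩
      have hMK : M.map K.subtype ≤ K := Subgroup.map_subtype_le M
      have hdvd : H.relIndex (M.map K.subtype) ∣ 2 ^ b := by
        have h1 := Subgroup.relIndex_mul_relIndex H (M.map K.subtype) K hHM' hMK
        have h2 : (M.map K.subtype).relIndex K = 2 := by
          rw [Subgroup.relIndex, Subgroup.subgroupOf,
            Subgroup.comap_map_eq_self_of_injective K.subtype_injective, hidx]
        rw [h2] at h1
        rw [← h1, pow_succ] at h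
        exact Nat.dvd_of_mul_dvd_mul_right (by norm_num) h
      calc der K (b + 1) = der ⁅K, K⁆ b := by
            rw [Nat.add_comm b 1, der_add, der_succ, der_zero]
        _ ≤ der (M.map K.subtype) b := der_mono hcomm b
        _ ≤ H := ih hHM' ((hK.to_subgroup M).map K.subtype) hdvd

/-- The doubling step: `σ` swaps `W` with a commuting copy. -/
theorem exists_twin_mem_der {W : Subgroup G} {σ : G}
    (hcomm : ∀ g ∈ W, ∀ u ∈ W.map (MulAut.conj σ).toMonoidHom, Commute g u)
    {L : Subgroup G} (hW : W ≤ L) (hσ : σ ∈ L) (j : ℕ) :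
    ∀ h ∈ der W j, ∃ u ∈ W.map (MulAut.conj σ).toMonoidHom, u * h ∈ der L (j + 1) := by
  induction j with
  | zero =>
    intro h hh
    refine ⟨σ * h⁻¹ * σ⁻¹, ⟨h⁻¹, inv_mem hh, rfl⟩, ?_⟩
    rw [der_succ, der_zero]
    have := Subgroup.commutator_mem_commutator hσ (inv_mem (hW hh))
    simpa [commutatorElement_def] using this
  | succ j ih =>
    have key : ∀ h ∈ der W (j + 1), h ∈ W ∧
        ∃ u ∈ W.map (MulAut.conj σ).toMonoidHom, u * h ∈ der L (j + 1 + 1) := by
      intro h hh
      refine ⟨der_le _ _ hh, ?_⟩
      rw [der_succ, Subgroup.commutator_def] at hh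
      induction hh using Subgroup.closure_induction with
      | mem x hx =>
        obtain ⟨a, ha, b, hb, rfl⟩ := hx
        obtain ⟨u, hu, hua⟩ := ih a ha
        obtain ⟨v, hv, hvb⟩ := ih b hb
        have haW := der_le _ _ ha
        have hbW := der_le _ _ hb
        refine ⟨⁅u, v⁆, ?_, ?_⟩
        · rw [commutatorElement_def]
          exact mul_mem (mul_mem (mul_mem hu hv) (inv_mem hu)) (inv_mem hv)
        · have h1 := Subgroup.commutator_mem_commutator hua hvb
          rw [← der_succ] at h1
          have c1 : Commute a v := hcomm a haW v hv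
          have c2 : Commute b u := hcomm b hbW u hu
          have e : ⁅u * a, v * b⁆ = ⁅u, v⁆ * ⁅a, b⁆ := by
            simp only [commutatorElement_def, mul_inv_rev]
            calc u * a * (v * b) * (a⁻¹ * u⁻¹) * (b⁻¹ * v⁻¹)
                = u * (a * v) * b * a⁻¹ * u⁻¹ * b⁻¹ * v⁻¹ := by group
              _ = u * v * (a * b * a⁻¹ * u⁻¹) * b⁻¹ * v⁻¹ := by rw [c1.eq]; group
              _ = u * v * (u⁻¹ * (a * b * a⁻¹)) * b⁻¹ * v⁻¹ := by
                  rw [show a * b * a⁻¹ * u⁻¹ = u⁻¹ * (a * b * a⁻¹) from
                    (hcomm _ (mul_mem (mul_mem haW hbW) (inv_mem haW)) u hu).inv_right.eq]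
              _ = u * v * u⁻¹ * ((a * b * a⁻¹ * b⁻¹) * v⁻¹) := by group
              _ = u * v * u⁻¹ * (v⁻¹ * (a * b * a⁻¹ * b⁻¹)) := by
                  rw [(hcomm _ (mul_mem (mul_mem (mul_mem haW hbW) (inv_mem haW)) (inv_mem hbW))
                    v hv).inv_right.eq]
              _ = _ := by group
          rwa [e] at h1
      | one => exact ⟨1, one_mem _, by simp⟩
      | mul x y hx hy hx' hy' =>
        obtain ⟨u, hu, hux⟩ := hx'
        obtain ⟨v, hv, hvy⟩ := hy'
        refine ⟨u * v, mul_mem hu hv, ?_⟩
        have hxW : x ∈ W := der_le W (j + 1) (by rw [der_succ, Subgroup.commutator_def]; exact hx)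
        rw [show u * v * (x * y) = (u * x) * (v * y) by
          rw [mul_assoc, ← mul_assoc v x y, ← (hcomm x hxW v hv).eq]; group]
        exact mul_mem hux hvy
      | inv x hx hx' =>
        obtain ⟨u, hu, hux⟩ := hx'
        refine ⟨u⁻¹, inv_mem hu, ?_⟩
        have hxW : x ∈ W := der_le W (j + 1) (by rw [der_succ, Subgroup.commutator_def]; exact hx)
        rw [show u⁻¹ * x⁻¹ = (u * x)⁻¹ by rw [← (hcomm x hxW u hu).eq, mul_inv_rev]]
        exact inv_mem hux
    exact fun h hh => (key h hh).2

end Cfsg.Agent.SympSylowTwo
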