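import Cfsg.Agent.Lib.SympSylowTwo.Monomial

/-!
# Derived length of a Sylow 2-subgroup of `Sp_2n(q)`, `q` odd

* `der_two_of_two_subgroup` : 2-subgroups of `SL_2(q)^n` have derived length at most 2
* `der_mono_bot` : 2-subgroups of the monomial group have derived length at most `log n + 2`
* `exists_witness` : and this is attained
-/

set_option autoImplicit false
set_option linter.unusedSectionVars false

namespace Cfsg.Agent.SympSylowTwo

open Matrix
open scoped MatrixGroups commutatorElement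

variable {F : Type*} [Field F] [Finite F] {n : ℕ}

/-- Commutators in a quaternion group lie in the cyclic subgroup. -/
theorem der_two_quaternion (k : ℕ) : derivedSeries (QuaternionGroup k) 2 = ⊥ := by
  let A : Subgroup (QuaternionGroup k) :=
    { carrier := {x | ∃ i, x = QuaternionGroup.a i}
      one_mem' := ⟨0, rfl⟩
      mul_mem' := by rintro _ _ ⟨i, rfl⟩ ⟨j, rfl⟩; exact ⟨i + j, rfl⟩
      inv_mem' := by rintro _ ⟨i, rfl⟩; exact ⟨-i, rfl⟩ }
  have h1 : ⁅(⊤ : Subgroup (QuaternionGroup k)), ⊤⁆ ≤ A := Subgroup.commutator_le.2 fun g _ h _ => by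
    rw [commutatorElement_def]
    cases g <;> cases h <;> exact ⟨_, rfl⟩
  have h2 : ⁅A, A⁆ = ⊥ := by
    rw [Subgroup.commutator_eq_bot_iff_le_centralizer]
    rintro _ ⟨i, rfl⟩ _ ⟨j, rfl⟩
    show QuaternionGroup.a j * QuaternionGroup.a i = QuaternionGroup.a i * QuaternionGroup.a j
    simp [add_comm]
  rw [← der_top, der_succ, eq_bot_iff, ← h2]
  exact Subgroup.commutator_mono h1 h1

theorem der_two_sl (hodd : Odd (Nat.card F)) {K : Subgroup SL(2, F)} (hK : IsPGroup 2 K) :
    der K 2 = ⊥ := by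
  haveI : Fact (Nat.Prime 2) := ⟨Nat.prime_two⟩
  obtain ⟨P, hP⟩ := hK.exists_le_sylow
  obtain ⟨k, -, ⟨e⟩⟩ := GLOrder.sylow_two_SL_two hodd P
  have h1 : derivedSeries ↥(P : Subgroup SL(2, F)) 2 = ⊥ := by
    rw [← map_derivedSeries_eq (f := e.symm.toMonoidHom) e.symm.surjective 2,
      der_two_quaternion, Subgroup.map_bot]
  rw [derivedSeries_eq_bot_iff] at h1
  exact eq_bot_iff.2 (h1 ▸ der_mono hP 2)

/-- 2-subgroups of the base group. -/
theorem der_two_of_two_subgroup (hodd : Odd (Nat.card F)) {K : Subgroup (Fin n → SL(2, F))}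
    (hK : IsPGroup 2 K) : der K 2 = ⊥ := by
  rw [eq_bot_iff]
  intro g hg
  rw [Subgroup.mem_bot]
  funext i
  have h : Pi.evalMonoidHom (fun _ : Fin n => SL(2, F)) i g ∈
      (der K 2).map (Pi.evalMonoidHom (fun _ : Fin n => SL(2, F)) i) := ⟨g, hg, rfl⟩
  rw [← der_map, der_two_sl hodd (hK.map _)] at h
  exact h

/-- Upper bound. -/
theorem der_mono_bot (hodd : Odd (Nat.card F)) {P : Subgroup (Mono n F)} (hP : IsPGroup 2 P) :
    der P (Nat.log 2 n + 2) = ⊥ := by
  haveI : Fact (Nat.Prime 2) := ⟨Nat.prime_two⟩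
  set T := P.map (SemidirectProduct.rightHom : Mono n F →* Equiv.Perm (Fin n))
  have hT : IsPGroup 2 T := hP.map _
  have hb : der T (Nat.log 2 n) = ⊥ := by
    rw [eq_bot_iff]
    intro π hπ
    rw [Subgroup.mem_bot]
    refine Equiv.ext fun x => ?_
    let H : Subgroup (Equiv.Perm (Fin n)) := T ⊓ MulAction.stabilizer _ x
    have hidx : H.relIndex T ∣ 2 ^ Nat.log 2 n := by
      have hle : H.relIndex T ≤ n := by
        rw [Subgroup.inf_relIndex_left, Subgroup.relIndex]
        have h1 : (MulAction.stabilizer (Equiv.Perm (Fin n)) x).subgroupOf T = MulAction.stabilizer T x := by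
          ext g; rfl
        rw [h1, MulAction.index_stabilizer]
        calc (MulAction.orbit T x).ncard ≤ (Set.univ : Set (Fin n)).ncard :=
              Set.ncard_le_ncard (Set.subset_univ _)
          _ = n := by simp
      obtain ⟨c, hc⟩ := hT.index (H.subgroupOf T)
      rw [Subgroup.relIndex, hc] at hle ⊢
      exact Nat.pow_dvd_pow 2 (Nat.le_log_of_pow_le one_lt_two hle)
    exact (der_le_of_relIndex (Nat.log 2 n) inf_le_left hT hidx hπ).2
  rw [der_map, Subgroup.map_eq_bot_iff, ← SemidirectProduct.range_inl_eq_ker_rightHom] at hb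
  rw [der_add]
  have hK : IsPGroup 2 ((der P (Nat.log 2 n)).comap
      (SemidirectProduct.inl : (Fin n → SL(2, F)) →* Mono n F)) :=
    (hP.to_le (der_le _ _)).comap_of_injective _ SemidirectProduct.inl_injective
  rw [← Subgroup.map_comap_eq_self hb, der_map, der_two_of_two_subgroup hodd hK, Subgroup.map_bot]

/-- A quaternion pair in `SL_2(F)`. -/
theorem exists_pair [Fintype F] [DecidableEq F] :
    ∃ i j : SL(2, F), i ^ 4 = 1 ∧ j ^ 4 = 1 ∧ j * i * j⁻¹ = i⁻¹ ∧ ⁅j, i⁆ = -1 := by
  obtain ⟨p, _⟩ := CharP.exists F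
  haveI : Fact p.Prime := ⟨CharP.char_is_prime F p⟩
  haveI : NeZero p := ⟨(Fact.out : p.Prime).ne_zero⟩
  obtain ⟨a, b, hab⟩ : ∃ a b : F, a ^ 2 + b ^ 2 = -1 := by
    obtain ⟨a, b, h⟩ := CharP.sq_add_sq F p (-1)
    exact ⟨(a : F), (b : F), by simpa using h⟩
  let i : SL(2, F) := ⟨!![0, 1; -1, 0], by simp [Matrix.det_fin_two]⟩
  let j : SL(2, F) := ⟨!![a, b; b, -a], by simp [Matrix.det_fin_two]; linear_combination -hab⟩
  have hi2 : i * i = -1 := by
    apply Subtype.ext
    show (!![0, 1; -1, 0] : Matrix (Fin 2) (Fin 2) F) * (!![0, 1; -1, 0] : Matrix (Fin 2) (Fin 2) F) = -1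
    ext r c
    fin_cases r <;> fin_cases c <;> simp [Matrix.mul_apply, Fin.sum_univ_two, Matrix.SpecialLinearGroup.coe_mul]
  have hj2 : j * j = -1 := by
    apply Subtype.ext
    show (!![a, b; b, -a] : Matrix (Fin 2) (Fin 2) F) * (!![a, b; b, -a] : Matrix (Fin 2) (Fin 2) F) = -1
    ext r c
    fin_cases r <;> fin_cases c <;> simp [Matrix.mul_apply, Fin.sum_univ_two, Matrix.SpecialLinearGroup.coe_mul] <;>
      first | ring1 | linear_combination hab | linear_combination -hab
  have hji : j * i = -(i * j) := by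
    apply Subtype.ext
    show (!![a, b; b, -a] : Matrix (Fin 2) (Fin 2) F) * (!![0, 1; -1, 0] : Matrix (Fin 2) (Fin 2) F) =
      -((!![0, 1; -1, 0] : Matrix (Fin 2) (Fin 2) F) * (!![a, b; b, -a] : Matrix (Fin 2) (Fin 2) F))
    ext r c
    fin_cases r <;> fin_cases c <;>
      simp [Matrix.mul_apply, Fin.sum_univ_two, Matrix.SpecialLinearGroup.coe_mul]
  have hii : i⁻¹ = -i := inv_eq_of_mul_eq_one_right (by rw [mul_neg, hi2, neg_neg])
  have hjj : j⁻¹ = -j := inv_eq_of_mul_eq_one_right (by rw [mul_neg, hj2, neg_neg])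
  have hconj : j * i * j⁻¹ = i⁻¹ := by
    rw [hji, hjj, neg_mul_neg, mul_assoc, hj2, mul_neg, mul_one, hii]
  refine ⟨i, j, ?_, ?_, hconj, ?_⟩
  · rw [show (4 : ℕ) = 2 * 2 from rfl, pow_mul, sq i, hi2, sq, neg_mul_neg, mul_one]
  · rw [show (4 : ℕ) = 2 * 2 from rfl, pow_mul, sq j, hj2, sq, neg_mul_neg, mul_one]
  · rw [commutatorElement_def, hconj, hii, neg_mul_neg, hi2]

/-- Lower bound: witnesses. -/
theorem exists_witness (hodd : Odd (Nat.card F)) (hn : 1 ≤ n) :
    ∀ a, 2 ^ a ≤ n → ∃ W : Subgroup (Mono n F), IsPGroup 2 W ∧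
      W ≤ suppG {x | (x : ℕ) < 2 ^ a} ∧ der W (a + 1) ≠ ⊥ := by
  haveI : Fact (Nat.Prime 2) := ⟨Nat.prime_two⟩
  haveI := Fintype.ofFinite F
  classical
  intro a
  induction a with
  | zero =>
    intro _
    obtain ⟨i, j, hi, hj, hconj, hc⟩ := exists_pair (F := F)
    let o : Fin n := ⟨0, hn⟩
    let φ : SL(2, F) →* Mono n F :=
      SemidirectProduct.inl.comp (MonoidHom.mulSingle (fun _ : Fin n => SL(2, F)) o)
    have hφ : Function.Injective φ :=
      SemidirectProduct.inl_injective.comp (Pi.mulSingle_injective (M := fun _ : Fin n => SL(2, F)) o)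
    set Qi := Subgroup.zpowers i
    set Qj := Subgroup.zpowers j
    have hcp : ∀ g : SL(2, F), g ^ 4 = 1 → IsPGroup 2 (Subgroup.zpowers g) := by
      intro g hg x
      obtain ⟨z, hz⟩ := x.2
      refine ⟨2, Subtype.ext ?_⟩
      show (x : SL(2, F)) ^ 2 ^ 2 = 1
      rw [← hz, ← zpow_natCast, ← _root_.zpow_mul, mul_comm, _root_.zpow_mul, zpow_natCast, show 2 ^ 2 = 4 by norm_num,
        hg, _root_.one_zpow]
    have hN : Qj ≤ Subgroup.normalizer (Qi : Set SL(2, F)) := by
      rw [Subgroup.zpowers_le, Subgroup.mem_normalizer_iff]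
      intro x
      have h : MulAut.conj j i = i⁻¹ := hconj
      have hmap : Qi.map (MulAut.conj j).toMonoidHom = Qi := by
        rw [MonoidHom.map_zpowers]
        show Subgroup.zpowers (MulAut.conj j i) = Qi
        rw [h, Subgroup.zpowers_inv]
      conv_rhs => rw [← hmap]
      exact (Subgroup.mem_map_equiv.trans (by simp [mul_assoc])).symm
    have hp : IsPGroup 2 (Qj ⊔ Qi : Subgroup SL(2, F)) :=
      IsPGroup.to_sup_of_normal_right' (hcp j hj) (hcp i hi) hN
    refine ⟨(Qj ⊔ Qi).map φ, hp.map φ, ?_, ?_⟩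
    · rintro _ ⟨g, -, rfl⟩ x hx
      have hxo : x ≠ o := fun h => hx (by rw [h]; simp [o])
      exact ⟨rfl, Pi.mulSingle_eq_of_ne (M := fun _ : Fin n => SL(2, F)) hxo g⟩
    · rw [der_map]
      intro h
      have hmem : ⁅j, i⁆ ∈ der (Qj ⊔ Qi) 1 := Subgroup.commutator_mem_commutator
        (Subgroup.mem_sup_left (Subgroup.mem_zpowers j)) (Subgroup.mem_sup_right (Subgroup.mem_zpowers i))
      have h2 : φ ⁅j, i⁆ ∈ (der (Qj ⊔ Qi) (0 + 1)).map φ := ⟨_, hmem, rfl⟩
      rw [h, Subgroup.mem_bot] at h2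
      have h3 := hφ (h2.trans (map_one φ).symm)
      rw [hc] at h3
      have h4 := congrFun (congrFun (congrArg Subtype.val h3) 0) 0
      have h5 : (2 : F) = 0 := by
        simp at h4
        linear_combination -h4
      obtain ⟨p, _⟩ := CharP.exists F
      haveI : CharP F 2 := CharTwo.of_one_ne_zero_of_two_eq_zero one_ne_zero h5
      obtain ⟨f, hf, hq⟩ := GLOrder.exists_card_eq_pow (F := F) 2
      exact Nat.not_even_iff_odd.2 hodd (hq ▸ Nat.even_pow.2 ⟨even_two, by omega⟩)
  | succ a ih =>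
    intro ha
    rw [pow_succ] at ha
    obtain ⟨W, hWp, hWs, hWd⟩ := ih (by omega)
    let sh : Fin n → Fin n := fun x =>
      if h : (x : ℕ) < 2 ^ a then ⟨x + 2 ^ a, by omega⟩
      else if h' : (x : ℕ) < 2 ^ a * 2 then ⟨x - 2 ^ a, by omega⟩ else x
    have hinv : Function.Involutive sh := fun x => by
      apply Fin.ext
      by_cases h1 : (x : ℕ) < 2 ^ a
      · have h2 : ¬ ((x : ℕ) + 2 ^ a < 2 ^ a) := by omega
        have h3 : (x : ℕ) + 2 ^ a < 2 ^ a * 2 := by omega
        simp [sh, h1, h2, h3]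
      · by_cases h2 : (x : ℕ) < 2 ^ a * 2
        · have h3 : (x : ℕ) - 2 ^ a < 2 ^ a := by omega
          simp [sh, h1, h2, h3]
          omega
        · simp [sh, h1, h2]
    let π : Equiv.Perm (Fin n) := hinv.toPerm
    let σ : Mono n F := SemidirectProduct.inr π
    have hσ2 : σ * σ = 1 := by
      rw [← map_mul, show π * π = 1 from Equiv.ext fun x => hinv x, map_one]
    set A : Set (Fin n) := {x | (x : ℕ) < 2 ^ a}
    set B : Set (Fin n) := π '' A
    have hB : ∀ x ∈ B, 2 ^ a ≤ (x : ℕ) ∧ (x : ℕ) < 2 ^ a * 2 := by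
      rintro _ ⟨x, hx, rfl⟩
      have hx' : (x : ℕ) < 2 ^ a := hx
      have : ((π x : Fin n) : ℕ) = x + 2 ^ a := by
        show ((sh x : Fin n) : ℕ) = _
        simp [sh, hx']
      omega
    have hAB : Disjoint A B := Set.disjoint_left.2 fun x hxA hxB => by
      have := hB x hxB
      have hx' : (x : ℕ) < 2 ^ a := hxA
      omega
    set W' := W.map (MulAut.conj σ).toMonoidHom
    have hW' : W' ≤ suppG B := by
      rintro _ ⟨g, hg, rfl⟩
      exact conj_mem_suppG π (hWs hg)
    have hcomm : ∀ g ∈ W, ∀ u ∈ W', Commute g u := fun g hg u hu =>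
      suppG_commute hAB (hWs hg) (hW' hu)
    have hWW' : W ≤ Subgroup.normalizer (W' : Set (Mono n F)) := fun g hg => by
      rw [Subgroup.mem_normalizer_iff]
      intro x
      constructor
      · intro hx
        rw [(hcomm g hg x hx).eq, mul_inv_cancel_right]
        exact hx
      · intro hx
        have h1 := (hcomm g hg _ hx).eq
        have : x = g * x * g⁻¹ := by
          have := congrArg (g⁻¹ * ·) h1
          simpa [mul_assoc] using this.symm
        rw [this]; exact hx
    have hp1 : IsPGroup 2 (W ⊔ W' : Subgroup (Mono n F)) :=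
      IsPGroup.to_sup_of_normal_right' hWp (hWp.map _) hWW'
    have hσN : Subgroup.zpowers σ ≤ Subgroup.normalizer ((W ⊔ W' : Subgroup (Mono n F)) : Set (Mono n F)) := by
      rw [Subgroup.zpowers_le, Subgroup.mem_normalizer_iff]
      intro x
      have hmap : (W ⊔ W').map (MulAut.conj σ).toMonoidHom = W ⊔ W' := by
        rw [Subgroup.map_sup, Subgroup.map_map,
          show (MulAut.conj σ).toMonoidHom.comp (MulAut.conj σ).toMonoidHom = MonoidHom.id _ by
            refine MonoidHom.ext fun g => ?_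
            show σ * (σ * g * σ⁻¹) * σ⁻¹ = g
            rw [← mul_assoc, ← mul_assoc, hσ2, one_mul, mul_assoc, ← _root_.mul_inv_rev, hσ2, inv_one, mul_one],
          Subgroup.map_id, sup_comm]
      conv_rhs => rw [← hmap]
      exact (Subgroup.mem_map_equiv.trans (by simp [mul_assoc])).symm
    have hps : IsPGroup 2 (Subgroup.zpowers σ) := by
      intro x
      obtain ⟨z, hz⟩ := x.2
      refine ⟨1, Subtype.ext ?_⟩
      show (x : Mono n F) ^ 2 ^ 1 = 1
      rw [← hz, ← zpow_natCast, ← _root_.zpow_mul, mul_comm, _root_.zpow_mul, zpow_natCast, pow_one, sq, hσ2, _root_.one_zpow]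
    set L := Subgroup.zpowers σ ⊔ (W ⊔ W')
    refine ⟨L, IsPGroup.to_sup_of_normal_right' hps hp1 hσN, ?_, ?_⟩
    · have hAle : (suppG A : Subgroup (Mono n F)) ≤ suppG {x | (x : ℕ) < 2 ^ (a + 1)} :=
        suppG_mono fun x hx => by
          have hx' : (x : ℕ) < 2 ^ a := hx
          show (x : ℕ) < 2 ^ (a + 1)
          rw [pow_succ]; omega
      have hBle : (suppG B : Subgroup (Mono n F)) ≤ suppG {x | (x : ℕ) < 2 ^ (a + 1)} :=
        suppG_mono fun x hx => by
          show (x : ℕ) < 2 ^ (a + 1)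
          rw [pow_succ]; exact (hB x hx).2
      refine sup_le (Subgroup.zpowers_le.2 fun x hx => ⟨?_, ?_⟩)
        (sup_le (hWs.trans hAle) (hW'.trans hBle))
      · have h2 : ¬ (x : ℕ) < 2 ^ a * 2 := by rw [← pow_succ]; exact hx
        have h1 : ¬ (x : ℕ) < 2 ^ a := by omega
        show sh x = x
        simp [sh, h1, h2]
      · rfl
    · intro hbot
      apply hWd
      rw [eq_bot_iff]
      intro h hh
      obtain ⟨u, hu, huh⟩ := exists_twin_mem_der hcomm (L := L) (le_sup_left.trans le_sup_right)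
        (Subgroup.mem_sup_left (Subgroup.mem_zpowers σ)) (a + 1) h hh
      rw [hbot, Subgroup.mem_bot] at huh
      have hhW : h ∈ W := der_le _ _ hh
      have hu' : h ∈ suppG B := by
        rw [show h = u⁻¹ from eq_inv_of_mul_eq_one_right huh]
        exact inv_mem (hW' hu)
      rw [← suppG_disjoint hAB]
      exact ⟨hWs hhW, hu'⟩

end Cfsg.Agent.SympSylowTwo
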